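import Mathlib.LinearAlgebra.Matrix.SpecialLinearGroup
import Mathlib.GroupTheory.OrderOfElement
import Mathlib.GroupTheory.Coset.Card
import Mathlib.FieldTheory.Finite.Basic
import Mathlib.Algebra.CharP.Two
import Mathlib.Algebra.CharP.CharAndCard

/-!
# Two facts on `SL₂` in characteristic two

Centralisers of involutions have exponent two, and no subgroup of odd order is transitive on the
involutions when the field has at least four elements.
-/

set_option autoImplicit false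
set_option linter.style.haveILetI false

namespace Cfsg.Lib.Invol.AC

open Matrix
open scoped MatrixGroups

universe v

variable {F : Type v} [Field F] [CharP F 2]

theorem entries (M : SL(2, F)) : M.1 0 0 * M.1 1 1 + M.1 0 1 * M.1 1 0 = 1 := by
  have h : M.1 0 0 * M.1 1 1 - M.1 0 1 * M.1 1 0 = 1 := by rw [← Matrix.det_fin_two]; exact M.2
  rwa [CharTwo.sub_eq_add] at h

theorem sq_eq_one_of_trace {M : SL(2, F)} (h : M.1 0 0 = M.1 1 1) : M ^ 2 = 1 := by
  have hd := entries M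
  ext i j
  rw [pow_two, Matrix.SpecialLinearGroup.coe_mul, Matrix.SpecialLinearGroup.coe_one, Matrix.mul_apply,
    Fin.sum_univ_two]
  fin_cases i <;> fin_cases j <;> simp [Matrix.one_apply] <;> first
    | (linear_combination hd + M.1 0 0 * h)
    | (linear_combination hd - M.1 1 1 * h)
    | (rw [h, mul_comm (M.1 0 1)]; exact CharTwo.add_self_eq_zero _)
    | (rw [h, mul_comm (M.1 1 0)]; exact CharTwo.add_self_eq_zero _)

theorem trace_of_sq {M : SL(2, F)} (h : M ^ 2 = 1) (h1 : M ≠ 1) : M.1 0 0 = M.1 1 1 := by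
  by_contra hne
  have hs : M.1 0 0 + M.1 1 1 ≠ 0 := fun e => hne (CharTwo.add_eq_zero.mp e)
  have e : ∀ i j : Fin 2, (M.1 * M.1) i j = (1 : Matrix (Fin 2) (Fin 2) F) i j := fun i j => by
    rw [← Matrix.SpecialLinearGroup.coe_mul, ← pow_two, h, Matrix.SpecialLinearGroup.coe_one]
  have e01 := e 0 1
  have e10 := e 1 0
  have e00 := e 0 0
  have e11 := e 1 1
  simp [Matrix.mul_apply, Fin.sum_univ_two, Matrix.one_apply] at e01 e10 e00 e11
  have b0 : M.1 0 1 = 0 := (mul_eq_zero.mp (show (M.1 0 0 + M.1 1 1) * M.1 0 1 = 0 by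
    linear_combination e01)).resolve_left hs
  have c0 : M.1 1 0 = 0 := (mul_eq_zero.mp (show (M.1 0 0 + M.1 1 1) * M.1 1 0 = 0 by
    linear_combination e10)).resolve_left hs
  rw [b0, zero_mul, add_zero, ← pow_two] at e00
  rw [b0, mul_zero, zero_add, ← pow_two] at e11
  exact hne (CharTwo.sq_inj.mp (e00.trans e11.symm))

/-- The centraliser of an involution has exponent two. -/
theorem sq_eq_one_of_commute {M x : SL(2, F)} (h : M ^ 2 = 1) (h1 : M ≠ 1) (hc : M * x = x * M) : x ^ 2 = 1 := by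
  apply sq_eq_one_of_trace
  have ht := trace_of_sq h h1
  have e : ∀ i j : Fin 2, (M.1 * x.1) i j = (x.1 * M.1) i j := fun i j => by
    rw [← Matrix.SpecialLinearGroup.coe_mul, hc, Matrix.SpecialLinearGroup.coe_mul]
  have e01 := e 0 1
  have e10 := e 1 0
  simp [Matrix.mul_apply, Fin.sum_univ_two] at e01 e10
  by_cases hb : M.1 0 1 = 0
  · by_cases hc0 : M.1 1 0 = 0
    · exfalso
      apply h1
      have hd := entries M
      rw [hb, zero_mul, add_zero, ← ht, ← pow_two] at hd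
      have ha : M.1 0 0 = 1 := CharTwo.sq_inj.mp (hd.trans (one_pow 2).symm)
      ext i j
      fin_cases i <;> fin_cases j <;> simp [hb, hc0, ha, ← ht]
    · exact mul_left_cancel₀ hc0 (by linear_combination e10 + x.1 1 0 * ht)
  · exact (mul_left_cancel₀ hb (by linear_combination e01 - x.1 0 1 * ht)).symm

variable [Fintype F]

/-- The vector fixed by a transvection. -/
theorem fixed_vec (w v : Fin 2 → F) (hw : w 1 ≠ 0) (T : Matrix (Fin 2) (Fin 2) F)
    (hT : T = !![1 + w 0 * w 1, w 0 ^ 2; w 1 ^ 2, 1 + w 0 * w 1]) (hv : T *ᵥ v = v) :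
    v 0 * w 1 = v 1 * w 0 := by
  have e := congrFun hv 1
  subst hT
  simp [Matrix.mulVec, dotProduct, Fin.sum_univ_two] at e
  have : w 1 * (v 0 * w 1 + v 1 * w 0) = 0 := by linear_combination e
  exact CharTwo.add_eq_zero.mp ((mul_eq_zero.mp this).resolve_left hw)

omit [Fintype F] in
theorem coe_mulVec (x y : SL(2, F)) (v : Fin 2 → F) : (x * y).1 *ᵥ v = x.1 *ᵥ (y.1 *ᵥ v) := by
  rw [Matrix.SpecialLinearGroup.coe_mul, Matrix.mulVec_mulVec]

/-- No odd order subgroup is transitive on the involutions. -/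
theorem no_odd_transitive (hF : 4 ≤ Fintype.card F) (X : Subgroup SL(2, F)) (hX : Odd (Nat.card X))
    (htr : ∀ M N : SL(2, F), M ^ 2 = 1 → M ≠ 1 → N ^ 2 = 1 → N ≠ 1 → ∃ x ∈ X, x * M * x⁻¹ = N) : False := by
  classical
  haveI : Finite SL(2, F) := inferInstance
  obtain ⟨a, ha⟩ : ∃ a : F, a ∉ ({0, 1} : Finset F) := by
    by_contra hne
    push Not at hne
    have h1 := Finset.card_le_card (s := (Finset.univ : Finset F)) (t := {0, 1}) fun x _ => hne x
    have h2 : ({0, 1} : Finset F).card ≤ 2 := Finset.card_le_two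
    rw [Finset.card_univ] at h1
    omega
  rw [Finset.mem_insert, Finset.mem_singleton, not_or] at ha
  obtain ⟨ha0, ha1⟩ := ha
  set t : SL(2, F) := ⟨!![1, 1; 0, 1], by simp [Matrix.det_fin_two]⟩ with htdef
  set ta : SL(2, F) := ⟨!![1, a; 0, 1], by simp [Matrix.det_fin_two]⟩ with htadef
  have ht2 : t ^ 2 = 1 := sq_eq_one_of_trace (by simp [htdef])
  have ht1 : t ≠ 1 := fun e => by
    have := congrArg (fun M : SL(2, F) => M.1 0 1) e
    simp [htdef] at this
  have hta1 : ta ≠ 1 := fun e => by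
    have := congrArg (fun M : SL(2, F) => M.1 0 1) e
    simp [htadef] at this
    exact ha0 this
  obtain ⟨c, hcX, hc⟩ := htr t ta ht2 ht1 (sq_eq_one_of_trace (by simp [htadef])) hta1
  rw [mul_inv_eq_iff_eq_mul] at hc
  have hc' : ∀ i j : Fin 2, (c.1 * t.1) i j = (ta.1 * c.1) i j := fun i j => by
    rw [← Matrix.SpecialLinearGroup.coe_mul, hc, Matrix.SpecialLinearGroup.coe_mul]
  have e00 := hc' 0 0
  have e01 := hc' 0 1
  simp [htdef, htadef, Matrix.mul_apply, Fin.sum_univ_two] at e00 e01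
  have hr : c.1 1 0 = 0 := e00.resolve_left ha0
  have hp : c.1 0 0 = a * c.1 1 1 := by linear_combination e01
  have hdet := entries c
  rw [hr, mul_zero, add_zero] at hdet
  have hs : c.1 1 1 ≠ 0 := right_ne_zero_of_mul_eq_one hdet
  have hne : c.1 1 1 - c.1 0 0 ≠ 0 := by
    rw [hp, sub_ne_zero]
    intro e
    exact ha1 (mul_right_cancel₀ hs (by rw [← e, one_mul]))
  set w : Fin 2 → F := ![c.1 0 1, c.1 1 1 - c.1 0 0] with hwdef
  have hw1 : w 1 ≠ 0 := hne
  have hcw : c.1 *ᵥ w = c.1 1 1 • w := by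
    ext i
    fin_cases i <;> simp [hwdef, Matrix.mulVec, dotProduct, Fin.sum_univ_two, hr] <;> ring
  -- eigenvectors of `c`
  have heig : ∀ (v : Fin 2 → F) (α : F), c.1 *ᵥ v = α • v → v 1 = 0 ∨ v 0 * w 1 = v 1 * w 0 := by
    intro v α hv
    have h0 := congrFun hv 0
    have h1 := congrFun hv 1
    simp [Matrix.mulVec, dotProduct, Fin.sum_univ_two, hr] at h0 h1
    by_cases hv1 : v 1 = 0
    · exact Or.inl hv1
    · have hα : c.1 1 1 = α := h1.resolve_right hv1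
      refine Or.inr ?_
      rw [← hα] at h0
      show v 0 * (c.1 1 1 - c.1 0 0) = v 1 * c.1 0 1
      linear_combination -h0
  let U : Subgroup SL(2, F) :=
    { carrier := {M | M ∈ X ∧ M.1 1 0 = 0}
      mul_mem' := fun {M N} hM hN => ⟨mul_mem hM.1 hN.1, by
        simp [Matrix.mul_apply, Fin.sum_univ_two, hM.2, hN.2]⟩
      one_mem' := ⟨one_mem _, by simp⟩
      inv_mem' := fun {M} hM => ⟨inv_mem hM.1, by
        simp [Matrix.SpecialLinearGroup.coe_inv, Matrix.adjugate_fin_two, hM.2]⟩ }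
  have hcU : c ∈ U := ⟨hcX, hr⟩
  have hfixw : ∀ M ∈ U, ∃ β : F, M.1 *ᵥ w = β • w := by
    intro M hM
    have hmem : M * c * M⁻¹ * c⁻¹ ∈ U := mul_mem (mul_mem (mul_mem hM hcU) (inv_mem hM)) (inv_mem hcU)
    have hsq : (M * c * M⁻¹ * c⁻¹) ^ 2 = 1 := by
      apply sq_eq_one_of_trace
      have hMd := entries M
      rw [hM.2, mul_zero, add_zero] at hMd
      simp [Matrix.SpecialLinearGroup.coe_inv, Matrix.adjugate_fin_two, Matrix.mul_apply, Fin.sum_univ_two,
        hM.2, hr]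
      ring
    have hone : M * c * M⁻¹ * c⁻¹ = 1 := by
      have h2 := orderOf_dvd_of_pow_eq_one hsq
      have h3 : orderOf (M * c * M⁻¹ * c⁻¹) ∣ Nat.card X := by
        rw [← Subgroup.orderOf_mk _ hmem.1]; exact orderOf_dvd_natCard _
      exact orderOf_eq_one_iff.mp (Nat.eq_one_of_dvd_coprimes hX.coprime_two_right h3 h2)
    have hcomm : c * M = M * c := (mul_inv_eq_iff_eq_mul.mp (mul_inv_eq_one.mp hone)).symm
    have h1 : c.1 *ᵥ (M.1 *ᵥ w) = c.1 1 1 • (M.1 *ᵥ w) := by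
      rw [← coe_mulVec, hcomm, coe_mulVec, hcw, Matrix.mulVec_smul]
    rcases heig _ _ h1 with h | h
    · exfalso
      have hM11 := hM.2
      simp [Matrix.mulVec, dotProduct, Fin.sum_univ_two, hM11] at h
      rcases h with h | h
      · have hMd := entries M
        rw [hM11, h, mul_zero, mul_zero, add_zero] at hMd
        exact zero_ne_one hMd
      · exact hw1 h
    · refine ⟨(M.1 *ᵥ w) 1 / w 1, ?_⟩
      ext i
      fin_cases i
      · show (M.1 *ᵥ w) 0 = (M.1 *ᵥ w) 1 / w 1 * w 0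
        rw [div_mul_eq_mul_div, eq_div_iff hw1, h]
      · show (M.1 *ᵥ w) 1 = (M.1 *ᵥ w) 1 / w 1 * w 1
        rw [div_mul_cancel₀ _ hw1]
  set T : SL(2, F) := ⟨!![1 + w 0 * w 1, w 0 ^ 2; w 1 ^ 2, 1 + w 0 * w 1], by
    rw [Matrix.det_fin_two_of]
    linear_combination (w 0 * w 1) * (CharTwo.two_eq_zero (R := F))⟩ with hTdef
  have hT1 : T ≠ 1 := fun e => by
    have := congrArg (fun M : SL(2, F) => M.1 1 0) e
    simp [hTdef] at this
    exact hw1 this
  obtain ⟨x, hxX, hx⟩ := htr t T ht2 ht1 (sq_eq_one_of_trace (by simp [hTdef])) hT1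
  set e₁ : Fin 2 → F := ![1, 0] with he₁
  have hTx : T.1 *ᵥ (x.1 *ᵥ e₁) = x.1 *ᵥ e₁ := by
    rw [← coe_mulVec, ← hx, inv_mul_cancel_right, coe_mulVec]
    congr 1
    ext i
    fin_cases i <;> simp [htdef, he₁, Matrix.mulVec, dotProduct, Fin.sum_univ_two]
  obtain ⟨μ, hμ0, hμ⟩ : ∃ μ : F, μ ≠ 0 ∧ x.1 *ᵥ e₁ = μ • w := by
    have h := fixed_vec w _ hw1 T.1 rfl hTx
    refine ⟨(x.1 *ᵥ e₁) 1 / w 1, ?_, ?_⟩
    · intro h0
      have h1 : (x.1 *ᵥ e₁) 1 = 0 := (div_eq_zero_iff.mp h0).resolve_right hw1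
      rw [h1, zero_mul] at h
      have h2 := (mul_eq_zero.mp h).resolve_right hw1
      have hd := entries x
      simp [he₁, Matrix.mulVec, dotProduct, Fin.sum_univ_two] at h1 h2
      rw [h1, h2, zero_mul, mul_zero, add_zero] at hd
      exact zero_ne_one hd
    · ext i
      fin_cases i
      · show (x.1 *ᵥ e₁) 0 = (x.1 *ᵥ e₁) 1 / w 1 * w 0
        rw [div_mul_eq_mul_div, eq_div_iff hw1, h]
      · show (x.1 *ᵥ e₁) 1 = (x.1 *ᵥ e₁) 1 / w 1 * w 1
        rw [div_mul_cancel₀ _ hw1]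
  have hback : x⁻¹.1 *ᵥ w = μ⁻¹ • e₁ := by
    rw [eq_inv_smul_iff₀ hμ0, ← Matrix.mulVec_smul, ← hμ, ← coe_mulVec, inv_mul_cancel,
      Matrix.SpecialLinearGroup.coe_one, Matrix.one_mulVec]
  -- conjugation by `x` preserves `U`
  have hconj : ∀ M ∈ U, x⁻¹ * M * x ∈ U := by
    intro M hM
    refine ⟨mul_mem (mul_mem (inv_mem hxX) hM.1) hxX, ?_⟩
    obtain ⟨β, hβ⟩ := hfixw M hM
    have h1 : (x⁻¹ * M * x).1 *ᵥ e₁ = (μ * β * μ⁻¹) • e₁ := by
      rw [coe_mulVec, coe_mulVec, hμ, Matrix.mulVec_smul, hβ, smul_smul, Matrix.mulVec_smul, hback, smul_smul]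
    simpa [he₁, Matrix.mulVec, dotProduct, Fin.sum_univ_two] using congrFun h1 1
  have hsurj : Function.Surjective fun M : U => (⟨x⁻¹ * M.1 * x, hconj M.1 M.2⟩ : U) :=
    Finite.surjective_of_injective fun M N h => by
      have := congrArg Subtype.val h
      exact Subtype.ext (mul_left_cancel (mul_right_cancel this))
  obtain ⟨⟨M, hM⟩, hMc⟩ := hsurj ⟨c, hcU⟩
  have hMc' : x⁻¹ * M * x = c := congrArg Subtype.val hMc
  have hxe : (x⁻¹.1 *ᵥ e₁) 1 = 0 ∨ (x⁻¹.1 *ᵥ e₁) 0 * w 1 = (x⁻¹.1 *ᵥ e₁) 1 * w 0 := by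
    refine heig _ (M.1 0 0) ?_
    rw [← coe_mulVec, ← hMc', mul_inv_cancel_right, coe_mulVec, ← Matrix.mulVec_smul]
    congr 1
    ext i
    fin_cases i <;> simp [he₁, Matrix.mulVec, dotProduct, Fin.sum_univ_two, hM.2]
  rcases hxe with h | h
  · simp [he₁, Matrix.mulVec, dotProduct, Fin.sum_univ_two, Matrix.SpecialLinearGroup.coe_inv,
      Matrix.adjugate_fin_two] at h
    have h' := congrFun hμ 1
    simp [he₁, Matrix.mulVec, dotProduct, Fin.sum_univ_two, h] at h'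
    rcases h' with h' | h'
    · exact hμ0 h'
    · exact hw1 h'
  · -- `x` exchanges the two lines
    obtain ⟨ν, hν⟩ : ∃ ν : F, x⁻¹.1 *ᵥ e₁ = ν • w := by
      refine ⟨(x⁻¹.1 *ᵥ e₁) 1 / w 1, ?_⟩
      ext i
      fin_cases i
      · show (x⁻¹.1 *ᵥ e₁) 0 = (x⁻¹.1 *ᵥ e₁) 1 / w 1 * w 0
        rw [div_mul_eq_mul_div, eq_div_iff hw1, h]
      · show (x⁻¹.1 *ᵥ e₁) 1 = (x⁻¹.1 *ᵥ e₁) 1 / w 1 * w 1
        rw [div_mul_cancel₀ _ hw1]
    have h2 : (x ^ 2)⁻¹ ∈ U := by
      refine ⟨inv_mem (pow_mem hxX 2), ?_⟩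
      have h1 : (x ^ 2)⁻¹.1 *ᵥ e₁ = (ν * μ⁻¹) • e₁ := by
        rw [pow_two, _root_.mul_inv_rev, coe_mulVec, hν, Matrix.mulVec_smul, hback, smul_smul]
      simpa [he₁, Matrix.mulVec, dotProduct, Fin.sum_univ_two] using congrFun h1 1
    obtain ⟨k, hk⟩ : ∃ k : ℕ, (x ^ 2) ^ k = x := by
      obtain ⟨m, hm⟩ := hX
      refine ⟨m + 1, ?_⟩
      have : x ^ Nat.card X = 1 := congrArg Subtype.val (pow_card_eq_one' (x := (⟨x, hxX⟩ : X)))
      rw [← pow_mul, show 2 * (m + 1) = Nat.card X + 1 by omega, pow_succ, this, one_mul]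
    have hxU : x ∈ U := hk ▸ pow_mem (inv_inv (x ^ 2) ▸ inv_mem h2) k
    have h1 := congrFun hμ 1
    simp [he₁, Matrix.mulVec, dotProduct, Fin.sum_univ_two, hxU.2] at h1
    rcases h1 with h1 | h1
    · exact hμ0 h1
    · exact hw1 h1

end Cfsg.Lib.Invol.AC
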