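import Cfsg.Agent.Lib.Invol.Embedded
import Cfsg.Agent.Lib.Char.CAEven
import Cfsg.Agent.Lib.Invol.AbelianCentralizers.SLTwo
import Mathlib.GroupTheory.FixedPointFree

/-!
# Groups in which involution centralisers are abelian

With a Sylow 2-subgroup `S` neither cyclic nor normal, `N(S)` is strongly embedded and, unless an odd
element of `C(S)` has a centraliser outside `N(S)`, `C(S)` is a CA-subgroup.
-/

set_option autoImplicit false
set_option linter.style.haveILetI false

namespace Cfsg.Lib.Invol.AC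

open Subgroup Cfsg

universe u

/-- An abelian 2-group with at most one involution is cyclic. -/
theorem isCyclic_of_unique_invol {A : Type u} [CommGroup A] [Finite A] (hA : IsPGroup 2 A)
    (h : ∀ x y : A, orderOf x = 2 → orderOf y = 2 → x = y) : IsCyclic A := by
  classical
  haveI : Fact (Nat.Prime 2) := ⟨Nat.prime_two⟩
  have h2 : Nat.card (powMonoidHom 2 : A →* A).ker ≤ 2 := by
    haveI := Fintype.ofFinite (powMonoidHom 2 : A →* A).ker
    rw [Nat.card_eq_fintype_card]
    by_contra hc
    obtain ⟨a, b, c, hab, hac, hbc⟩ := Fintype.two_lt_card_iff.mp (not_le.mp hc)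
    have key : ∀ z : (powMonoidHom 2 : A →* A).ker, z = 1 ∨ orderOf (z : A) = 2 := fun z => by
      by_cases h1 : (z : A) = 1
      · exact Or.inl (Subtype.ext h1)
      · exact Or.inr (orderOf_eq_prime (MonoidHom.mem_ker.mp z.2) h1)
    rcases key a with ha | ha <;> rcases key b with hb | hb <;> rcases key c with hc | hc
    all_goals first
      | exact hab (ha.trans hb.symm)
      | exact hac (ha.trans hc.symm)
      | exact hbc (hb.trans hc.symm)
      | exact hbc (Subtype.ext (h _ _ hb hc))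
      | exact hac (Subtype.ext (h _ _ ha hc))
      | exact hab (Subtype.ext (h _ _ ha hb))
  have hk : ∀ k, Nat.card (powMonoidHom (2 ^ k) : A →* A).ker ≤ 2 ^ k := by
    intro k
    induction k with
    | zero =>
      have : (powMonoidHom (2 ^ 0) : A →* A).ker = ⊥ := eq_bot_iff.mpr fun x hx => by
        have := MonoidHom.mem_ker.mp hx
        rw [powMonoidHom_apply, pow_zero, pow_one] at this
        exact mem_bot.mpr this
      rw [this, card_bot, pow_zero]
    | succ k ih =>
      set K := (powMonoidHom (2 ^ (k + 1)) : A →* A).ker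
      let f : K →* (powMonoidHom (2 ^ k) : A →* A).ker :=
        ((powMonoidHom 2 : A →* A).comp K.subtype).codRestrict _ fun x => by
          rw [MonoidHom.mem_ker]
          show ((x : A) ^ 2) ^ 2 ^ k = 1
          rw [← pow_mul, ← pow_succ']
          exact MonoidHom.mem_ker.mp x.2
      have h1 : Nat.card f.ker ≤ 2 := by
        refine le_trans (Nat.card_le_card_of_injective (fun x : f.ker => (⟨((x : K) : A), by
          exact congrArg Subtype.val (MonoidHom.mem_ker.mp x.2)⟩ : (powMonoidHom 2 : A →* A).ker))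
          fun x y e => Subtype.ext (Subtype.ext (congrArg (fun z : (powMonoidHom 2 : A →* A).ker => (z : A)) e))) h2
      have h3 : Nat.card (K ⧸ f.ker) ≤ 2 ^ k := by
        refine le_trans ?_ ih
        rw [Nat.card_congr (QuotientGroup.quotientKerEquivRange f).toEquiv]
        exact Nat.card_le_card_of_injective _ Subtype.val_injective
      rw [Subgroup.card_eq_card_quotient_mul_card_subgroup f.ker, pow_succ]
      exact Nat.mul_le_mul h3 h1
  haveI := Fintype.ofFinite A
  refine isCyclic_of_card_pow_eq_one_le fun n hn => ?_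
  obtain ⟨m, hm⟩ := IsPGroup.iff_card.mp hA
  obtain ⟨j, -, hj⟩ := (Nat.dvd_prime_pow Nat.prime_two).mp (Nat.gcd_dvd_right n (2 ^ m))
  refine le_trans ?_ (le_trans (hk j) (hj ▸ Nat.le_of_dvd hn (Nat.gcd_dvd_left _ _)))
  rw [← Fintype.card_subtype, ← Nat.card_eq_fintype_card]
  refine Nat.card_le_card_of_injective (fun x : {a : A // a ^ n = 1} => (⟨(x : A), MonoidHom.mem_ker.mpr ?_⟩ :
    (powMonoidHom (2 ^ j) : A →* A).ker)) fun x y e => Subtype.ext (congrArg (fun z : (powMonoidHom (2 ^ j) : A →* A).ker => (z : A)) e)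
  show (x : A) ^ 2 ^ j = 1
  rw [← hj, ← hm]
  exact orderOf_dvd_iff_pow_eq_one.mp
    (Nat.dvd_gcd (orderOf_dvd_of_pow_eq_one x.2) (orderOf_dvd_natCard _))

variable {G : Type u} [Group G] [Finite G]

/-- All involution centralisers are abelian. -/
def AbInv (G : Type u) [Group G] : Prop :=
  ∀ t : G, orderOf t = 2 → IsMulCommutative (centralizer ({t} : Set G))

theorem AbInv.comm (h : AbInv G) {t a b : G} (ht : orderOf t = 2) (ha : Commute a t) (hb : Commute b t) :
    a * b = b * a :=
  congrArg Subtype.val ((h t ht).is_comm.comm ⟨a, mem_centralizer_singleton_iff.mpr ha⟩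
    ⟨b, mem_centralizer_singleton_iff.mpr hb⟩)

theorem AbInv.subgroup (h : AbInv G) (H : Subgroup G) : AbInv H := fun t ht =>
  ⟨⟨fun a b => Subtype.ext (Subtype.ext (h.comm (t := (t : G)) (by rw [Subgroup.orderOf_coe, ht])
    (congrArg Subtype.val (mem_centralizer_singleton_iff.mp a.2) :)
    (congrArg Subtype.val (mem_centralizer_singleton_iff.mp b.2) :)))⟩⟩

/-- `S` is neither cyclic nor normal, and involution centralisers are abelian. -/
structure Hyp (S : Sylow 2 G) : Prop where
  ab : AbInv G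
  notCyclic : ¬ IsCyclic (S : Subgroup G)
  notNormal : ¬ (S : Subgroup G).Normal

variable {S : Sylow 2 G} (h : Hyp S)
include h

theorem comm_sylow : ∀ a ∈ (S : Subgroup G), ∀ b ∈ (S : Subgroup G), a * b = b * a := by
  haveI : Fact (Nat.Prime 2) := ⟨Nat.prime_two⟩
  haveI : Nontrivial (S : Subgroup G) := by
    by_contra hne
    rw [not_nontrivial_iff_subsingleton] at hne
    exact h.notCyclic inferInstance
  haveI := S.isPGroup'.center_nontrivial
  obtain ⟨k, hk0, hk⟩ := (S.isPGroup'.to_subgroup (center (S : Subgroup G))).nontrivial_iff_card.mp inferInstance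
  obtain ⟨z, hz⟩ := exists_prime_orderOf_dvd_card' (G := center (S : Subgroup G)) 2
    (by rw [hk]; exact dvd_pow_self 2 hk0.ne')
  intro a ha b hb
  have hc : ∀ x ∈ (S : Subgroup G), Commute x ((z : (S : Subgroup G)) : G) := fun x hx =>
    congrArg Subtype.val (mem_center_iff.mp z.2 ⟨x, hx⟩)
  exact h.ab.comm (t := ((z : (S : Subgroup G)) : G)) (by rw [orderOf_coe, orderOf_coe, hz]) (hc a ha) (hc b hb)

theorem exists_two : ∃ s t : G, s ∈ (S : Subgroup G) ∧ orderOf s = 2 ∧ t ∈ (S : Subgroup G) ∧ orderOf t = 2 ∧ s ≠ t := by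
  by_contra hne
  push Not at hne
  letI : CommGroup (S : Subgroup G) :=
    { (inferInstance : Group (S : Subgroup G)) with mul_comm := fun a b => Subtype.ext (comm_sylow h a a.2 b b.2) }
  exact h.notCyclic (isCyclic_of_unique_invol S.isPGroup' fun x y hx hy => Subtype.ext
    (hne x y x.2 (by rw [orderOf_coe, hx]) y.2 (by rw [orderOf_coe, hy])))

/-- The centraliser of an involution of `S`. -/
theorem centralizer_invol {t : G} (ht : t ∈ (S : Subgroup G)) (ht2 : orderOf t = 2) :
    centralizer ({t} : Set G) = centralizer ((S : Subgroup G) : Set G) := by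
  ext x
  rw [mem_centralizer_singleton_iff, mem_centralizer_iff]
  refine ⟨fun hx y hy => h.ab.comm ht2 (comm_sylow h y hy t ht) hx, fun hx => (hx t ht).symm⟩

theorem comm_cent {a b : G} (ha : a ∈ centralizer ((S : Subgroup G) : Set G))
    (hb : b ∈ centralizer ((S : Subgroup G) : Set G)) : a * b = b * a := by
  obtain ⟨s, -, hs, hs2, -⟩ := exists_two h
  exact h.ab.comm hs2 (mem_centralizer_iff.mp ha s hs).symm (mem_centralizer_iff.mp hb s hs).symm

theorem le_cent : (S : Subgroup G) ≤ centralizer ((S : Subgroup G) : Set G) := fun x hx =>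
  mem_centralizer_iff.mpr fun y hy => comm_sylow h y hy x hx

omit h in
theorem cent_le_normalizer :
    centralizer ((S : Subgroup G) : Set G) ≤ normalizer ((S : Subgroup G) : Set G) := fun x hx => by
  rw [mem_normalizer_iff]
  intro y
  constructor <;> intro hy
  · rwa [← mem_centralizer_iff.mp hx y hy, mul_inv_cancel_right]
  · have e := mem_centralizer_iff.mp hx _ hy
    rw [show x * y * x⁻¹ * x = x * y by group] at e
    rwa [mul_left_cancel e]

omit h in
theorem invol_mem {s : G} (hs : s ∈ normalizer ((S : Subgroup G) : Set G)) (hs2 : orderOf s = 2) :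
    s ∈ (S : Subgroup G) := by
  haveI : Fact (Nat.Prime 2) := ⟨Nat.prime_two⟩
  have hp : IsPGroup 2 (zpowers s) := IsPGroup.of_card (n := 1) (by rw [Nat.card_zpowers, hs2, pow_one])
  have h1 := S.is_maximal' (hp.to_sup_of_normal_right' S.isPGroup' (zpowers_le.mpr hs)) le_sup_right
  rw [← h1]
  exact mem_sup_left (mem_zpowers s)

/-- The 2-elements of `C(S)` lie in `S`. -/
theorem two_element_mem {x : G} (hx : x ∈ centralizer ((S : Subgroup G) : Set G)) {k : ℕ}
    (hk : x ^ 2 ^ k = 1) : x ∈ (S : Subgroup G) := by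
  haveI : Fact (Nat.Prime 2) := ⟨Nat.prime_two⟩
  have hp : IsPGroup 2 (zpowers x) := fun ⟨y, i, hi⟩ => ⟨k, Subtype.ext (by
    subst hi
    show (x ^ i) ^ 2 ^ k = 1
    rw [← zpow_natCast, ← zpow_mul, mul_comm, zpow_mul, zpow_natCast, hk, one_zpow])⟩
  have h1 := S.is_maximal' (hp.to_sup_of_normal_right' S.isPGroup' (zpowers_le.mpr (cent_le_normalizer hx)))
    le_sup_right
  rw [← h1]
  exact mem_sup_left (mem_zpowers x)

theorem mem_of_conj {s g : G} (hs : s ∈ (S : Subgroup G)) (hs2 : orderOf s = 2)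
    (hg : g * s * g⁻¹ ∈ (S : Subgroup G)) : g ∈ normalizer ((S : Subgroup G) : Set G) := by
  have hg2 : orderOf (g * s * g⁻¹) = 2 := by rw [Invol.orderOf_conj_eq, hs2]
  have key : ∀ y ∈ (S : Subgroup G), g * y * g⁻¹ ∈ (S : Subgroup G) := by
    intro y hy
    obtain ⟨k, hk⟩ := S.isPGroup' ⟨y, hy⟩
    refine two_element_mem h ?_ (k := k) ?_
    · rw [← centralizer_invol h hg hg2, mem_centralizer_singleton_iff, show g * y * g⁻¹ * (g * s * g⁻¹) =
        g * (y * s) * g⁻¹ by group, comm_sylow h y hy s hs]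
      group
    · rw [conj_pow, show y ^ 2 ^ k = 1 from congrArg Subtype.val hk, mul_one, mul_inv_cancel]
  exact mem_normalizer_fintype fun y hy => key y hy

theorem ne_top : normalizer ((S : Subgroup G) : Set G) ≠ ⊤ := fun e =>
  h.notNormal (normalizer_eq_top_iff.mp e)

theorem se : IsStronglyEmbedded (normalizer ((S : Subgroup G) : Set G)) := by
  obtain ⟨s, -, hs, hs2, -⟩ := exists_two h
  refine (stronglyEmbedded_iff (ne_top h) (even_iff_two_dvd.mpr ?_)).mpr fun r hr hr2 g hg => ?_
  · have := _root_.orderOf_dvd_natCard (⟨s, le_normalizer hs⟩ : normalizer ((S : Subgroup G) : Set G))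
    rwa [Subgroup.orderOf_mk, hs2] at this
  · exact mem_of_conj h (invol_mem hr hr2) hr2 (invol_mem hg (by rw [Invol.orderOf_conj_eq, hr2]))

/-- Involutions are conjugate inside the subgroup they generate all together. -/
theorem conj_in_closure {a b : G} (ha : orderOf a = 2) (hb : orderOf b = 2) :
    ∃ l ∈ closure {x : G | orderOf x = 2}, l * a * l⁻¹ = b := by
  obtain ⟨v, hv, hv2⟩ := se_exists_outside (se h)
  obtain ⟨t, -, ht, ht2, -⟩ := exists_two h
  set L := closure {x : G | orderOf x = 2}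
  have step : ∀ {p q : G}, orderOf p = 2 → orderOf q = 2 → Odd (orderOf (p * q)) →
      ∃ l ∈ L, l * p * l⁻¹ = q := fun {p q} hp hq ho => by
    obtain ⟨d, hd, he⟩ := exists_conj_of_odd hp hq ho
    refine ⟨d, closure_mono ?_ hd, he⟩
    rintro x (rfl | rfl) <;> assumption
  have key : ∀ c : G, orderOf c = 2 → ∃ l ∈ L, l * t * l⁻¹ = c := by
    intro c hc
    by_cases hcN : c ∈ normalizer ((S : Subgroup G) : Set G)
    · obtain ⟨l₁, h₁, e₁⟩ := step ht2 hv2 (se_odd_product (se h) (le_normalizer ht) ht2 hv hv2)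
      obtain ⟨l₂, h₂, e₂⟩ := step hc hv2 (se_odd_product (se h) hcN hc hv hv2)
      refine ⟨l₂⁻¹ * l₁, mul_mem (inv_mem h₂) h₁, ?_⟩
      calc l₂⁻¹ * l₁ * t * (l₂⁻¹ * l₁)⁻¹ = l₂⁻¹ * (l₁ * t * l₁⁻¹) * l₂ := by group
        _ = c := by rw [e₁, ← e₂]; group
    · exact step ht2 hc (se_odd_product (se h) (le_normalizer ht) ht2 hcN hc)
  obtain ⟨la, h₁, rfl⟩ := key a ha
  obtain ⟨lb, h₂, rfl⟩ := key b hb
  exact ⟨lb * la⁻¹, mul_mem h₂ (inv_mem h₁), by group⟩

/-- The group is generated by its involutions and `C(S)`. -/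
theorem exists_split (g : G) :
    ∃ l ∈ closure {x : G | orderOf x = 2}, l⁻¹ * g ∈ centralizer ((S : Subgroup G) : Set G) := by
  obtain ⟨t, -, ht, ht2, -⟩ := exists_two h
  obtain ⟨l, hl, he⟩ := conj_in_closure h ht2 (show orderOf (g * t * g⁻¹) = 2 by rw [Invol.orderOf_conj_eq, ht2])
  refine ⟨l, hl, ?_⟩
  rw [← centralizer_invol h ht ht2, mem_centralizer_singleton_iff]
  calc l⁻¹ * g * t = l⁻¹ * (g * t * g⁻¹) * g := by group
    _ = t * (l⁻¹ * g) := by rw [← he]; group

/-- Each coset of `C(S)` in `N(S)` contains the product of two involutions outside `N(S)`. -/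
theorem exists_inverted {y : G} (hy : y ∈ normalizer ((S : Subgroup G) : Set G))
    (hsmall : ∀ c ∈ centralizer ((S : Subgroup G) : Set G), c ≠ 1 → Odd (orderOf c) →
      centralizer ({c} : Set G) ≤ normalizer ((S : Subgroup G) : Set G)) :
    ∃ u j : G, orderOf u = 2 ∧ u ∉ normalizer ((S : Subgroup G) : Set G) ∧
      j ∈ normalizer ((S : Subgroup G) : Set G) ∧ y⁻¹ * j ∈ centralizer ((S : Subgroup G) : Set G) ∧
      u * j * u⁻¹ = j⁻¹ := by
  classical
  set N := normalizer ((S : Subgroup G) : Set G) with hN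
  set C := centralizer ((S : Subgroup G) : Set G) with hC
  obtain ⟨u, huN, hu⟩ : ∃ u, u ∉ N ∧ orderOf u = 2 := se_exists_outside (se h)
  obtain ⟨t, -, ht, ht2, -⟩ := exists_two h
  set x₀ : G ⧸ N := QuotientGroup.mk 1
  set y₀ : G ⧸ N := QuotientGroup.mk u
  have hxy : x₀ ≠ y₀ := fun e => huN (by simpa [x₀, y₀, QuotientGroup.eq] using e)
  have hj : ∀ i : SwapSet N x₀ y₀, u * i.1 ∈ N := fun i => by
    have h1 := i.2.2
    rw [MulAction.Quotient.smul_mk, smul_eq_mul, mul_one, QuotientGroup.eq] at h1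
    rw [← Invol.inv_eq_self i.2.1] at h1 ⊢
    simpa [Invol.inv_eq_self hu] using inv_mem h1
  let f : SwapSet N x₀ y₀ → {r : G // orderOf r = 2 ∧ r ∈ N} := fun i =>
    ⟨u * i.1 * t * (u * i.1)⁻¹, by rw [Invol.orderOf_conj_eq, ht2],
      mul_mem (mul_mem (hj i) (le_normalizer ht)) (inv_mem (hj i))⟩
  have hinj : Function.Injective f := by
    intro i i' e
    have e' : u * i.1 * t * (u * i.1)⁻¹ = u * i'.1 * t * (u * i'.1)⁻¹ := congrArg Subtype.val e
    have hi := Invol.inv_mul_self i.2.1
    have hi' := Invol.inv_mul_self i'.2.1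
    set c := i.1 * i'.1 with hc
    have hcC : c ∈ C := by
      rw [hC, ← centralizer_invol h ht ht2, mem_centralizer_singleton_iff]
      calc c * t = i.1⁻¹ * u⁻¹ * (u * i'.1 * t * (u * i'.1)⁻¹) * (u * i'.1) := by
            rw [hc, Invol.inv_eq_self i.2.1]; group
        _ = i.1⁻¹ * u⁻¹ * (u * i.1 * t * (u * i.1)⁻¹) * (u * i'.1) := by rw [e']
        _ = t * (i.1⁻¹ * i'.1) := by group
        _ = t * c := by rw [hc, Invol.inv_eq_self i.2.1]
    by_contra hne
    have hc1 : c ≠ 1 := fun e1 => hne (Subtype.ext ((eq_inv_of_mul_eq_one_left e1).trans (Invol.inv_eq_self i'.2.1)))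
    have hinv : i.1 * c * i.1⁻¹ = c⁻¹ := conj_mul_left i.2.1 i'.2.1
    have hiN : i.1 ∉ N := fun hi0 => huN (by simpa [hi] using mul_mem (hj i) (inv_mem hi0))
    rcases Nat.even_or_odd (orderOf c) with hev | hodd
    · obtain ⟨m, hm⟩ := hev
      have hr : orderOf (c ^ m) = 2 := by
        rw [orderOf_pow_of_dvd (by have := orderOf_pos c; omega) ⟨2, by omega⟩, hm]
        exact Nat.div_eq_of_eq_mul_left (by have := orderOf_pos c; omega) (by omega)
      have hrS : c ^ m ∈ (S : Subgroup G) := invol_mem (cent_le_normalizer (pow_mem hcC m)) hr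
      refine hiN (se_centralizer (se h) (le_normalizer hrS) hr ?_)
      have : i.1 * c ^ m * i.1⁻¹ = c ^ m := by
        rw [← conj_pow, hinv, inv_pow, Invol.inv_eq_self hr]
      exact (mul_inv_eq_iff_eq_mul.mp this)
    · refine hiN (mem_of_conj h ht ht2 ?_)
      refine invol_mem ?_ (by rw [Invol.orderOf_conj_eq, ht2])
      refine hsmall c hcC hc1 hodd ?_
      have htc : Commute t c := mem_centralizer_iff.mp hcC t ht
      rw [mem_centralizer_singleton_iff]
      have e1 : i.1⁻¹ * c * i.1 = c⁻¹ := by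
        rw [Invol.inv_eq_self i.2.1]; nth_rewrite 2 [← Invol.inv_eq_self i.2.1]; exact hinv
      calc i.1 * t * i.1⁻¹ * c = i.1 * (t * (i.1⁻¹ * c * i.1)) * i.1⁻¹ := by group
        _ = i.1 * ((i.1⁻¹ * c * i.1) * t) * i.1⁻¹ := by rw [e1, (htc.inv_right).eq]
        _ = c * (i.1 * t * i.1⁻¹) := by group
  have hsurj : Function.Surjective f :=
    (hinj.bijective_of_nat_card_le (le_of_eq ((se_swap (se h) hxy).1).symm)).2
  obtain ⟨i, hi⟩ := hsurj ⟨y * t * y⁻¹, by rw [Invol.orderOf_conj_eq, ht2],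
    mul_mem (mul_mem hy (le_normalizer ht)) (inv_mem hy)⟩
  have hi' : u * i.1 * t * (u * i.1)⁻¹ = y * t * y⁻¹ := congrArg Subtype.val hi
  refine ⟨u, u * i.1, hu, huN, hj i, ?_, conj_mul_left hu i.2.1⟩
  rw [hC, ← centralizer_invol h ht ht2, mem_centralizer_singleton_iff]
  calc y⁻¹ * (u * i.1) * t = y⁻¹ * (u * i.1 * t * (u * i.1)⁻¹) * (u * i.1) := by group
    _ = t * (y⁻¹ * (u * i.1)) := by rw [hi']; group

omit h in
theorem Hyp.conj (h : Hyp S) (g : G) : Hyp (g • S) := by
  refine ⟨h.ab, ?_, fun hn => ?_⟩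
  · intro hc
    exact h.notCyclic ((MulEquiv.isCyclic (Sylow.equiv S (g • S))).mpr hc)
  · refine h.notNormal ⟨fun n hnS x => ?_⟩
    have hmem : ∀ z, z ∈ ((g • S : Sylow 2 G) : Subgroup G) ↔ g⁻¹ * z * g ∈ (S : Subgroup G) := by
      intro z
      rw [Sylow.coe_subgroup_smul, Subgroup.mem_pointwise_smul_iff_inv_smul_mem]
      simp [MulAut.smul_def]
    have h1 := hn.conj_mem (g * n * g⁻¹) ((hmem _).mpr (by simpa [mul_assoc] using hnS)) (g * x * g⁻¹)
    have h2 := (hmem _).mp h1
    simpa [mul_assoc] using h2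

/-- Odd elements of `C(S)` have centraliser `C(S)`. -/
theorem centralizer_eq_of_small
    (hsmall : ∀ (T : Sylow 2 G), ∀ c ∈ centralizer ((T : Subgroup G) : Set G), c ≠ 1 → Odd (orderOf c) →
      centralizer ({c} : Set G) ≤ normalizer ((T : Subgroup G) : Set G))
    {z : G} (hz : z ∈ centralizer ((S : Subgroup G) : Set G)) (hz1 : z ≠ 1) (hzo : Odd (orderOf z)) :
    centralizer ({z} : Set G) = centralizer ((S : Subgroup G) : Set G) := by
  classical
  haveI : Fact (Nat.Prime 2) := ⟨Nat.prime_two⟩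
  set C := centralizer ((S : Subgroup G) : Set G) with hC
  have hCz : C ≤ centralizer ({z} : Set G) := fun c hc =>
    mem_centralizer_singleton_iff.mpr (comm_cent h hc hz)
  refine le_antisymm (fun y₀ hy₀ => ?_) hCz
  have hy₀N := hsmall S z hz hz1 hzo hy₀
  obtain ⟨u, y, hu, huN, hyN, hyy, hinv⟩ := exists_inverted h hy₀N (hsmall S)
  by_contra hy₀C
  have hyC : y ∉ C := fun hyc => hy₀C (by
    have := mul_mem hyc (inv_mem hyy)
    simpa using this)
  have hyz : Commute y z := by
    have h1 : y = y₀ * (y₀⁻¹ * y) := by group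
    rw [h1]
    exact Commute.mul_left (mem_centralizer_singleton_iff.mp hy₀) (mem_centralizer_singleton_iff.mp (hCz hyy))
  have hy1 : y ≠ 1 := fun e => hyC (e ▸ one_mem C)
  have hyodd : Odd (orderOf y) := by
    rw [← Nat.not_even_iff_odd]
    rintro ⟨m, hm⟩
    have hr : orderOf (y ^ m) = 2 := by
      rw [orderOf_pow_of_dvd (by have := orderOf_pos y; omega) ⟨2, by omega⟩, hm]
      exact Nat.div_eq_of_eq_mul_left (by have := orderOf_pos y; omega) (by omega)
    have hrS := invol_mem (pow_mem hyN m) hr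
    exact hyC (by rw [hC, ← centralizer_invol h hrS hr, mem_centralizer_singleton_iff]
                  exact (Commute.refl y).pow_right m)
  have hsq : y * y = 1 → False := fun e => hy1 (orderOf_eq_one_iff.mp (Nat.eq_one_of_dvd_coprimes
    hyodd.coprime_two_right dvd_rfl (orderOf_dvd_of_pow_eq_one (by rw [pow_two]; exact e))))
  -- `u` normalises the centraliser of `y`
  set D := centralizer ({y} : Set G) with hD
  have huD : ∀ w ∈ D, u * w * u⁻¹ ∈ D := fun w hw => by
    rw [hD, mem_centralizer_singleton_iff] at hw ⊢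
    have hw' : w * y⁻¹ = y⁻¹ * w := (Commute.inv_right (show Commute w y from hw)).eq
    rw [show y = u * y⁻¹ * u⁻¹ by rw [← conj_inv, hinv, inv_inv]]
    calc u * w * u⁻¹ * (u * y⁻¹ * u⁻¹) = u * (w * y⁻¹) * u⁻¹ := by group
      _ = u * (y⁻¹ * w) * u⁻¹ := by rw [hw']
      _ = _ := by group
  have hDodd : Odd (Nat.card D) := by
    rw [← Nat.not_even_iff_odd]
    intro he
    obtain ⟨v, hvD, hv⟩ := exists_involution_of_even he
    have hvp : IsPGroup 2 (zpowers v) := IsPGroup.of_card (n := 1) (by rw [Nat.card_zpowers, hv, pow_one])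
    obtain ⟨T, hT⟩ := hvp.exists_le_sylow
    have hvT : v ∈ (T : Subgroup G) := hT (mem_zpowers v)
    obtain ⟨g, rfl⟩ := MulAction.exists_smul_eq G S T
    have hT' := h.conj g
    set T := g • S
    have hyv : Commute y v := (mem_centralizer_singleton_iff.mp hvD : v * y = y * v).symm
    have hyT : y ∈ centralizer ((T : Subgroup G) : Set G) := by
      rw [← centralizer_invol hT' hvT hv, mem_centralizer_singleton_iff]; exact hyv
    have hv' := invol_mem (hsmall T y hyT hy1 hyodd (huD v hvD)) (by rw [Invol.orderOf_conj_eq, hv])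
    have huT := invol_mem (mem_of_conj hT' hvT hv hv') hu
    have e : u * y * u⁻¹ = y := by rw [mem_centralizer_iff.mp hyT u huT, mul_inv_cancel_right]
    rw [hinv] at e
    exact hsq (inv_eq_iff_mul_eq_one.mp e)
  -- `u` is fixed-point-free on it
  let φ : D →* D :=
    { toFun := fun x => ⟨u * x.1 * u⁻¹, huD x.1 x.2⟩
      map_one' := Subtype.ext (by simp)
      map_mul' := fun x x' => Subtype.ext (by simp [mul_assoc]) }
  have h2 : Function.Involutive φ := fun x => Subtype.ext (by
    show u * (u * x.1 * u⁻¹) * u⁻¹ = x.1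
    rw [show u * (u * x.1 * u⁻¹) * u⁻¹ = (u * u) * x.1 * (u * u)⁻¹ by group, Invol.inv_mul_self hu, one_mul,
      inv_one, mul_one])
  have hfix : MonoidHom.FixedPointFree φ := by
    intro x hx
    have hx' : u * x.1 * u⁻¹ = x.1 := congrArg Subtype.val hx
    by_contra hx1
    have hxo : Odd (orderOf x.1) := hDodd.of_dvd_nat (by rw [orderOf_coe]; exact orderOf_dvd_natCard _)
    have hup : IsPGroup 2 (zpowers u) := IsPGroup.of_card (n := 1) (by rw [Nat.card_zpowers, hu, pow_one])
    obtain ⟨T, hT⟩ := hup.exists_le_sylow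
    have huT : u ∈ (T : Subgroup G) := hT (mem_zpowers u)
    obtain ⟨g, rfl⟩ := MulAction.exists_smul_eq G S T
    have hT' := h.conj g
    set T := g • S
    have hxT : x.1 ∈ centralizer ((T : Subgroup G) : Set G) := by
      rw [← centralizer_invol hT' huT hu, mem_centralizer_singleton_iff]
      exact (mul_inv_eq_iff_eq_mul.mp hx').symm
    have hyT : y ∈ normalizer ((T : Subgroup G) : Set G) :=
      hsmall T x.1 hxT (fun e => hx1 (Subtype.ext e)) hxo
        (mem_centralizer_singleton_iff.mpr (mem_centralizer_singleton_iff.mp x.2 : x.1 * y = y * x.1).symm)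
    have hy2 : y * y ∈ (T : Subgroup G) := by
      have e1 : y * y = (y * u * y⁻¹) * u := by
        have e2 : u * y⁻¹ = y * u := by
          rw [← hinv, ← mul_assoc, ← mul_assoc, Invol.inv_mul_self hu, one_mul, Invol.inv_eq_self hu]
        calc y * y = y * u * (u⁻¹ * y) := by group
          _ = y * u * (y⁻¹ * u) := by
            rw [show u⁻¹ * y = y⁻¹ * u by
              rw [Invol.inv_eq_self hu]
              calc u * y = u * y * u⁻¹ * u := by group
                _ = y⁻¹ * u := by rw [hinv]]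
          _ = _ := by group
      rw [e1]
      exact mul_mem ((mem_normalizer_iff.mp hyT u).mp huT) huT
    obtain ⟨k, hk⟩ := T.isPGroup' ⟨_, hy2⟩
    have hk' : y ^ (2 * 2 ^ k) = 1 := by rw [pow_mul, pow_two]; exact congrArg Subtype.val hk
    refine hy1 (orderOf_eq_one_iff.mp (Nat.eq_one_of_dvd_coprimes
      (hyodd.coprime_two_right.pow_right (k + 1)) dvd_rfl ?_))
    rw [pow_succ']
    exact orderOf_dvd_of_pow_eq_one hk'
  have hzD : z ∈ D := mem_centralizer_singleton_iff.mpr hyz.symm
  have hzinv : u * z * u⁻¹ = z⁻¹ :=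
    congrArg Subtype.val (congrFun (hfix.coe_eq_inv_of_involutive h2) ⟨z, hzD⟩)
  obtain ⟨t, -, ht, ht2, -⟩ := exists_two h
  refine huN (mem_of_conj h ht ht2 (invol_mem (hsmall S z hz hz1 hzo ?_) (by rw [Invol.orderOf_conj_eq, ht2])))
  rw [mem_centralizer_singleton_iff]
  have htz : Commute t z := mem_centralizer_iff.mp hz t ht
  have e1 : u⁻¹ * z * u = z⁻¹ := by
    rw [Invol.inv_eq_self hu]; nth_rewrite 2 [← Invol.inv_eq_self hu]; exact hzinv
  calc u * t * u⁻¹ * z = u * (t * (u⁻¹ * z * u)) * u⁻¹ := by group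
    _ = u * ((u⁻¹ * z * u) * t) * u⁻¹ := by rw [e1, (htz.inv_right).eq]
    _ = z * (u * t * u⁻¹) := by group

/-- When odd elements of `C(S)` have small centralisers, involution centralisers have exponent two. -/
theorem sq_eq_one_of_small
    (hsmall : ∀ (T : Sylow 2 G), ∀ c ∈ centralizer ((T : Subgroup G) : Set G), c ≠ 1 → Odd (orderOf c) →
      centralizer ({c} : Set G) ≤ normalizer ((T : Subgroup G) : Set G))
    {c : G} (hc : c ∈ centralizer ((S : Subgroup G) : Set G)) : c * c = 1 := by
  haveI := Fintype.ofFinite G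
  set C := centralizer ((S : Subgroup G) : Set G) with hC
  have hCA : Cfsg.Lib.Char.CAEven.IsCA C :=
    { comm := fun a ha b hb => comm_cent h ha hb
      cent := fun x hx hx1 => by
        rcases Nat.even_or_odd (orderOf x) with ⟨m, hm⟩ | hodd
        · have hr : orderOf (x ^ m) = 2 := by
            rw [orderOf_pow_of_dvd (by have := orderOf_pos x; omega) ⟨2, by omega⟩, hm]
            exact Nat.div_eq_of_eq_mul_left (by have := orderOf_pos x; omega) (by omega)
          have hrS : x ^ m ∈ (S : Subgroup G) := invol_mem (cent_le_normalizer (pow_mem hx m)) hr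
          refine le_antisymm (fun w hw => ?_) fun w hw => mem_centralizer_singleton_iff.mpr (comm_cent h hw hx)
          rw [hC, ← centralizer_invol h hrS hr, mem_centralizer_singleton_iff]
          exact ((show Commute w x from mem_centralizer_singleton_iff.mp hw).pow_right m)
        · exact centralizer_eq_of_small h hsmall hx hx1 hodd }
  obtain ⟨s, t, hs, hs2, ht, ht2, hst⟩ := exists_two h
  have hconj : ∀ x y : G, x ≠ 1 → x * x = 1 → y ≠ 1 → y * y = 1 → IsConj x y := fun x y hx hx' hy hy' =>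
    se_isConj (se h) (orderOf_eq_two_of hx hx') (orderOf_eq_two_of hy hy')
  refine Cfsg.Lib.Char.CAEven.sq_eq_one hCA (le_cent h hs) (ne_one hs2) (Invol.inv_mul_self hs2) hconj
    (le_cent h ht) (ne_one ht2) (Invol.inv_mul_self ht2) (Ne.symm hst) ?_ c hc
  intro e
  refine ne_top h (eq_top_iff.mpr fun g _ => mem_of_conj h hs hs2 (invol_mem (cent_le_normalizer ?_) (by rw [Invol.orderOf_conj_eq, hs2])))
  exact (mem_normalizer_iff.mp (e ▸ mem_top g) s).mp (le_cent h hs)

end Cfsg.Lib.Invol.AC
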