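import Cfsg.Agent.Lib.Invol.AbelianCentralizers.Basic
import Cfsg.Agent.S1230
import Cfsg.Agent.S0262
import Mathlib.GroupTheory.Transfer
import Mathlib.Algebra.Group.TransferInstance

/-!
# Structure of groups with abelian involution centralisers

By induction on the order: factor out an odd central subgroup and split it off by transfer; an odd element
of `C(S)` with centraliser outside `N(S)` leads to a strongly embedded `SL₂ × A`, which is impossible.
-/

set_option autoImplicit false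
set_option linter.style.haveILetI false

namespace Cfsg.Lib.Invol.AC

open Subgroup Cfsg
open scoped MatrixGroups IsMulCommutative

universe u

/-- `G` is `SL₂` over a finite field of characteristic two times an abelian group of odd order. -/
def IsSLTimesAbelian (G : Type u) [Group G] : Prop :=
  ∃ (F : Type) (_ : Field F) (_ : Fintype F) (A : Type) (_ : CommGroup A) (_ : Finite A),
    CharP F 2 ∧ Odd (Nat.card A) ∧ Nonempty (G ≃* SL(2, F) × A)

/-- The induction hypothesis below `n`. -/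
def Below (n : ℕ) : Prop :=
  ∀ (H : Type u) [Group H] [Finite H], Nat.card H < n → ∀ T : Sylow 2 H, Hyp T → IsSLTimesAbelian H

theorem eq_one_of_sq {X : Type*} [Group X] {x : X} (h : x ^ 2 = 1) (ho : Odd (orderOf x)) : x = 1 :=
  orderOf_eq_one_iff.mp (Nat.eq_one_of_dvd_coprimes ho.coprime_two_right dvd_rfl (orderOf_dvd_of_pow_eq_one h))

theorem sq_of_invol {X : Type*} [Monoid X] {t : X} (ht : orderOf t = 2) : t ^ 2 = 1 :=
  orderOf_dvd_iff_pow_eq_one.mp ht.dvd

theorem odd_pow_of_sq {X : Type*} [Monoid X] {x : X} (h : x ^ 2 = 1) {m : ℕ} (hm : Odd m) : x ^ m = x := by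
  obtain ⟨k, rfl⟩ := hm
  rw [pow_succ, pow_mul, h, one_pow, one_mul]

variable {G : Type u} [Group G] [Finite G]

section Product

variable {F : Type} [Field F] [CharP F 2] {A : Type} [CommGroup A] [Finite A]
  (ψ : G ≃* SL(2, F) × A) (hA : Odd (Nat.card A))
include ψ hA

omit [Finite G] [CharP F 2] in
theorem invol_image {t : G} (ht : orderOf t = 2) :
    (ψ t).2 = 1 ∧ (ψ t).1 ^ 2 = 1 ∧ (ψ t).1 ≠ 1 := by
  have h2 : ψ t ^ 2 = 1 := by rw [← map_pow, sq_of_invol ht, map_one]
  have h1 : (ψ t).2 = 1 :=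
    eq_one_of_sq (congrArg Prod.snd h2) (hA.of_dvd_nat (orderOf_dvd_natCard _))
  refine ⟨h1, congrArg Prod.fst h2, fun e => ?_⟩
  have : t = 1 := ψ.injective (by rw [map_one]; exact Prod.ext e h1)
  rw [this, orderOf_one] at ht
  omega

theorem fst_eq_one_of_commute {t x : G} (ht : orderOf t = 2) (hc : Commute x t) (hx : Odd (orderOf x)) :
    (ψ x).1 = 1 := by
  obtain ⟨-, h2, h1⟩ := invol_image ψ hA ht
  have hcc : (ψ t).1 * (ψ x).1 = (ψ x).1 * (ψ t).1 := congrArg Prod.fst (hc.symm.map ψ).eq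
  exact eq_one_of_sq (sq_eq_one_of_commute h2 h1 hcc)
    (hx.of_dvd_nat (orderOf_map_dvd ((MonoidHom.fst _ _).comp ψ.toMonoidHom) x))

theorem central_of_commute {t x : G} (ht : orderOf t = 2) (hc : Commute x t) (hx : Odd (orderOf x)) (y : G) :
    y * x = x * y := by
  apply ψ.injective
  rw [map_mul, map_mul]
  refine Prod.ext ?_ (mul_comm _ _)
  show (ψ y).1 * (ψ x).1 = (ψ x).1 * (ψ y).1
  rw [fst_eq_one_of_commute ψ hA ht hc hx, mul_one, one_mul]

omit [Finite G] in
theorem four_le_card [Fintype F] {s t : G} (hs : orderOf s = 2) (ht : orderOf t = 2) (hst : s ≠ t)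
    (hc : Commute s t) : 4 ≤ Fintype.card F := by
  classical
  obtain ⟨hs0, hs2, hs1⟩ := invol_image ψ hA hs
  obtain ⟨ht0, ht2, ht1⟩ := invol_image ψ hA ht
  obtain ⟨⟨k, hk0⟩, -, hk⟩ := FiniteField.card F 2
  have hk' : Fintype.card F = 2 ^ k := by simpa using hk
  by_contra hlt
  have hk1 : k = 1 := by
    by_contra hne
    have : (2 : ℕ) ^ 2 ≤ 2 ^ k := Nat.pow_le_pow_right (by norm_num) (by omega)
    omega
  have h01 : ∀ x : F, x = 0 ∨ x = 1 := fun x => by
    have hu : (Finset.univ : Finset F) = {0, 1} := by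
      refine (Finset.eq_of_subset_of_card_le (Finset.subset_univ _) ?_).symm
      rw [Finset.card_univ, hk', hk1, Finset.card_pair zero_ne_one]; norm_num
    have := hu ▸ Finset.mem_univ x
    simpa using this
  apply hst
  refine ψ.injective (Prod.ext ?_ (hs0.trans ht0.symm))
  set M := (ψ s).1
  set N := (ψ t).1
  have hMN : M * N = N * M := congrArg Prod.fst (hc.map ψ).eq
  have tM := trace_of_sq hs2 hs1
  have tN := trace_of_sq ht2 ht1
  have eM := entries M
  have eN := entries N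
  have eq00 : ∀ X : SL(2, F), X.1 0 0 = X.1 1 1 → X.1 0 1 = 0 → X.1 1 0 = 0 → X = 1 := fun X hX hb hc0 => by
    have hd := entries X
    rw [hb, zero_mul, add_zero, ← hX, ← pow_two] at hd
    have ha : X.1 0 0 = 1 := CharTwo.sq_inj.mp (hd.trans (one_pow 2).symm)
    ext i j
    fin_cases i <;> fin_cases j <;> simp [hb, hc0, ha, ← hX]
  have e00 : M.1 0 1 * N.1 1 0 = N.1 0 1 * M.1 1 0 := by
    have := congrArg (fun X : SL(2, F) => X.1 0 0) hMN
    simp [Matrix.mul_apply, Fin.sum_univ_two] at this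
    linear_combination this
  have key : M.1 0 1 = N.1 0 1 ∧ M.1 1 0 = N.1 1 0 := by
    rcases h01 (M.1 0 1) with b | b <;> rcases h01 (M.1 1 0) with c | c <;>
      rcases h01 (N.1 0 1) with b' | b' <;> rcases h01 (N.1 1 0) with c' | c' <;>
      first
        | exact ⟨b.trans b'.symm, c.trans c'.symm⟩
        | exact absurd (eq00 M tM b c) hs1
        | exact absurd (eq00 N tN b' c') ht1
        | (exfalso; simp [b, c, b', c'] at e00)
  have ha : M.1 0 0 = N.1 0 0 := by
    rw [← tM, key.1, key.2, ← pow_two] at eM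
    rw [← tN, ← pow_two] at eN
    exact CharTwo.sq_inj.mp (add_right_cancel (eM.trans eN.symm))
  ext i j
  fin_cases i <;> fin_cases j
  exacts [ha, key.1, key.2, tM.symm.trans (ha.trans tN)]

end Product

/-- Odd central subgroups do not see commutation with involutions. -/
theorem comm_of_mod {Z : Subgroup G} (hZ : Z ≤ center G) (hodd : Odd (Nat.card Z)) {t y : G}
    (ht : orderOf t = 2) (hz : y * t * y⁻¹ * t⁻¹ ∈ Z) : Commute y t := by
  set z := y * t * y⁻¹ * t⁻¹ with hzd
  have hzc : Commute z t := (mem_center_iff.mp (hZ hz) t).symm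
  have ht2 : t ^ 2 = 1 := sq_of_invol ht
  have h1 : (z * t) ^ 2 = 1 := by
    rw [show z * t = y * t * y⁻¹ by rw [hzd]; group, conj_pow, ht2, mul_one, mul_inv_cancel]
  rw [hzc.mul_pow, ht2, mul_one] at h1
  have hz1 : z = 1 := eq_one_of_sq h1 (hodd.of_dvd_nat (by rw [← Subgroup.orderOf_mk z hz]; exact orderOf_dvd_natCard _))
  show y * t = t * y
  calc y * t = z * t * y := by rw [hzd]; group
    _ = t * y := by rw [hz1, one_mul]

/-- Splitting off an odd central element. -/
theorem of_central (ih : Below.{u} (Nat.card G)) {S : Sylow 2 G} (h : Hyp S) {c : G} (hc : c ∈ center G)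
    (hc1 : c ≠ 1) (hco : Odd (orderOf c)) : IsSLTimesAbelian G := by
  classical
  haveI : Fact (Nat.Prime 2) := ⟨Nat.prime_two⟩
  set Z := zpowers c
  have hZ : Z ≤ center G := zpowers_le.mpr hc
  haveI : Z.Normal := ⟨fun n hn g => by rwa [mem_center_iff.mp (hZ hn) g, mul_inv_cancel_right]⟩
  have hZo : Odd (Nat.card Z) := by rwa [Nat.card_zpowers]
  let p : G →* G ⧸ Z := QuotientGroup.mk' Z
  have hp : Function.Surjective p := QuotientGroup.mk'_surjective Z
  have hker : ∀ g, p g = 1 ↔ g ∈ Z := fun g => QuotientGroup.eq_one_iff g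
  -- involutions lift
  have hlift : ∀ r : G ⧸ Z, orderOf r = 2 → ∃ t : G, orderOf t = 2 ∧ p t = r := by
    intro r hr
    obtain ⟨x, rfl⟩ := hp r
    have h2 : x ^ 2 ∈ Z := (hker _).mp (by rw [map_pow, sq_of_invol hr])
    have e : p (x ^ Nat.card Z) = p x := by
      rw [map_pow]; exact odd_pow_of_sq (sq_of_invol hr) hZo
    refine ⟨x ^ Nat.card Z, orderOf_eq_prime ?_ fun e1 => ?_, e⟩
    · rw [← pow_mul, mul_comm, pow_mul]
      exact congrArg Subtype.val (pow_card_eq_one' (x := (⟨x ^ 2, h2⟩ : Z)))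
    · rw [← e, e1, map_one, orderOf_one] at hr
      omega
  have hpt : ∀ t : G, orderOf t = 2 → p t ≠ 1 := fun t ht e => by
    have h1 : t = 1 := eq_one_of_sq (sq_of_invol ht)
      (hZo.of_dvd_nat (by rw [← Subgroup.orderOf_mk t ((hker t).mp e)]; exact orderOf_dvd_natCard _))
    rw [h1, orderOf_one] at ht
    omega
  have hcomm : ∀ t y : G, orderOf t = 2 → Commute (p y) (p t) → Commute y t := fun t y ht hyt =>
    comm_of_mod hZ hZo ht ((hker _).mp (by
      rw [map_mul, map_mul, map_mul, map_inv, map_inv, hyt.eq, mul_inv_cancel_right, mul_inv_cancel]))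
  -- the quotient
  have hQ : Hyp (S.mapSurjective hp) := by
    refine ⟨fun r hr => ?_, ?_, ?_⟩
    · obtain ⟨t, ht, rfl⟩ := hlift r hr
      refine ⟨⟨fun a b => Subtype.ext ?_⟩⟩
      obtain ⟨a', ha⟩ := hp a.1
      obtain ⟨b', hb⟩ := hp b.1
      have e1 : Commute a' t := hcomm t a' ht (by rw [ha]; exact mem_centralizer_singleton_iff.mp a.2)
      have e2 : Commute b' t := hcomm t b' ht (by rw [hb]; exact mem_centralizer_singleton_iff.mp b.2)
      show a.1 * b.1 = b.1 * a.1
      rw [← ha, ← hb, ← map_mul, ← map_mul, h.ab.comm ht e1 e2]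
    · intro hcyc
      let f : (S : Subgroup G) →* ((S.mapSurjective hp : Sylow 2 (G ⧸ Z)) : Subgroup (G ⧸ Z)) :=
        (p.comp (S : Subgroup G).subtype).codRestrict _ fun x => mem_map_of_mem p x.2
      refine h.notCyclic (isCyclic_of_injective f ((injective_iff_map_eq_one f).mpr fun x hx => Subtype.ext ?_))
      have hx' : (x : G) ∈ Z := (hker _).mp (congrArg Subtype.val hx)
      obtain ⟨k, hk⟩ := S.isPGroup' x
      refine orderOf_eq_one_iff.mp (Nat.eq_one_of_dvd_coprimes (hZo.coprime_two_right.pow_right k) ?_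
        (orderOf_dvd_of_pow_eq_one (congrArg Subtype.val hk)))
      rw [← Subgroup.orderOf_mk (x : G) hx']
      exact orderOf_dvd_natCard _
    · intro hn
      refine h.notNormal ⟨fun s hs g => ?_⟩
      obtain ⟨s', hs', he⟩ := hn.conj_mem (p s) (mem_map_of_mem p hs) (p g)
      set z := s'⁻¹ * (g * s * g⁻¹) with hzd
      have hz : z ∈ Z := (hker _).mp (by rw [hzd, map_mul, map_inv, map_mul, map_mul, map_inv, he, inv_mul_cancel])
      obtain ⟨k₁, hk₁⟩ := S.isPGroup' ⟨s, hs⟩
      obtain ⟨k₂, hk₂⟩ := S.isPGroup' ⟨s', hs'⟩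
      have hz2 : z ^ 2 ^ (k₁ + k₂) = 1 := by
        rw [hzd, Commute.mul_pow, conj_pow, inv_pow, pow_add,
          pow_mul s, show s ^ 2 ^ k₁ = 1 from congrArg Subtype.val hk₁, one_pow, mul_one, mul_inv_cancel,
          mul_comm (2 ^ k₁), pow_mul s', show s' ^ 2 ^ k₂ = 1 from congrArg Subtype.val hk₂, one_pow, inv_one,
          mul_one]
        have hc' : Commute s' z := mem_center_iff.mp (hZ hz) s'
        rw [show g * s * g⁻¹ = s' * z by rw [hzd, mul_inv_cancel_left]]
        exact ((Commute.refl s').mul_right hc').inv_left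
      have hz1 : z = 1 := orderOf_eq_one_iff.mp (Nat.eq_one_of_dvd_coprimes
        (hZo.coprime_two_right.pow_right (k₁ + k₂))
        (by rw [← Subgroup.orderOf_mk z hz]; exact orderOf_dvd_natCard _) (orderOf_dvd_of_pow_eq_one hz2))
      rw [hzd, inv_mul_eq_one] at hz1
      rwa [← hz1]
  have hlt : Nat.card (G ⧸ Z) < Nat.card G := by
    rw [Subgroup.card_eq_card_quotient_mul_card_subgroup Z]
    refine lt_mul_of_one_lt_right Nat.card_pos ?_
    rw [Nat.card_zpowers]
    have := orderOf_pos c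
    have : orderOf c ≠ 1 := fun e => hc1 (orderOf_eq_one_iff.mp e)
    omega
  obtain ⟨F, _, _, A, _, _, hchar, hA, ⟨ψ⟩⟩ := ih (G ⧸ Z) hlt _ hQ
  haveI := hchar
  let π : G →* SL(2, F) := (MonoidHom.fst _ _).comp (ψ.toMonoidHom.comp p)
  have hπ : Function.Surjective π := fun M => by
    obtain ⟨g, hg⟩ := hp (ψ.symm (M, 1))
    exact ⟨g, by show (ψ (p g)).1 = M; rw [hg, MulEquiv.apply_symm_apply]⟩
  have hord : ∀ t : G, orderOf t = 2 → orderOf (p t) = 2 := fun t ht =>
    orderOf_eq_prime (by rw [← map_pow, sq_of_invol ht, map_one]) (hpt t ht)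
  have hπt : ∀ t : G, orderOf t = 2 → π t ^ 2 = 1 ∧ π t ≠ 1 := fun t ht => (invol_image ψ hA (hord t ht)).2
  set K := π.ker with hK
  set L := closure {x : G | orderOf x = 2} with hL
  set C := centralizer ((S : Subgroup G) : Set G) with hC
  obtain ⟨t, -, htS, ht2, -⟩ := exists_two h
  have hKinv : ∀ k ∈ K, ∀ r : G, orderOf r = 2 → Commute k r := fun k hk r hr => hcomm r k hr (by
    apply ψ.injective
    rw [map_mul, map_mul]
    refine Prod.ext ?_ (mul_comm _ _)
    show π k * π r = π r * π k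
    rw [MonoidHom.mem_ker.mp hk, one_mul, mul_one])
  have hKC : ∀ k ∈ K, k ∈ C := fun k hk => by
    rw [hC, ← centralizer_invol h htS ht2, mem_centralizer_singleton_iff]
    exact hKinv k hk t ht2
  have hKcen : K ≤ center G := fun k hk => mem_center_iff.mpr fun g => by
    obtain ⟨l, hl, hlc⟩ := exists_split h g
    have h1 : Commute k l := by
      have : L ≤ centralizer ({k} : Set G) := (closure_le _).mpr fun r hr =>
        mem_centralizer_singleton_iff.mpr (hKinv k hk r hr).symm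
      exact (mem_centralizer_singleton_iff.mp (this hl) : l * k = k * l).symm
    have h2 : Commute k (l⁻¹ * g) := comm_cent h (hKC k hk) hlc
    exact (show Commute k g by simpa using h1.mul_right h2).symm
  have hKodd : Odd (Nat.card K) := by
    rw [← Nat.not_even_iff_odd]
    intro he
    obtain ⟨v, hv, hv2⟩ := exists_involution_of_even he
    exact (hπt v hv2).2 (MonoidHom.mem_ker.mp hv)
  -- every element is a product from `L` and `K`
  have hLK : ∀ g : G, ∃ l ∈ L, l⁻¹ * g ∈ K := by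
    intro g
    obtain ⟨l, hl, hlc⟩ := exists_split h g
    set d := l⁻¹ * g
    have hd2 : π d ^ 2 = 1 := by
      obtain ⟨h1, h2⟩ := hπt t ht2
      refine sq_eq_one_of_commute h1 h2 ?_
      rw [← map_mul, ← map_mul]
      exact congrArg π (mem_centralizer_iff.mp hlc t htS)
    by_cases hd : π d = 1
    · exact ⟨l, hl, MonoidHom.mem_ker.mpr hd⟩
    set m := Nat.card K
    have hdk : d ^ 2 ∈ K := MonoidHom.mem_ker.mpr (by rw [map_pow, hd2])
    have hdm : π (d ^ m) = π d := by rw [map_pow]; exact odd_pow_of_sq hd2 hKodd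
    have hinv : orderOf (d ^ m) = 2 := orderOf_eq_prime
      (by rw [← pow_mul, mul_comm, pow_mul]
          exact congrArg Subtype.val (pow_card_eq_one' (x := (⟨d ^ 2, hdk⟩ : K))))
      (fun e => hd (by rw [← hdm, e, map_one]))
    refine ⟨l * d ^ m, mul_mem hl (subset_closure hinv), MonoidHom.mem_ker.mpr ?_⟩
    rw [_root_.mul_inv_rev, mul_assoc, map_mul, map_inv, hdm, show l⁻¹ * g = d from rfl, inv_mul_cancel]
  -- `L` meets `K` trivially, by transfer into abelian Sylow subgroups
  have hint : ∀ x ∈ L, x ∈ K → x = 1 := by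
    intro x hxL hxK
    by_contra hx1
    set r := (orderOf x).minFac
    haveI hrF : Fact r.Prime := ⟨Nat.minFac_prime fun e => hx1 (orderOf_eq_one_iff.mp e)⟩
    set y := x ^ (orderOf x / r)
    have hyo : orderOf y = r := orderOf_pow_orderOf_div (orderOf_pos x).ne' (Nat.minFac_dvd _)
    have hyK : y ∈ K := pow_mem hxK _
    have hyL : y ∈ L := pow_mem hxL _
    have hr2 : r ≠ 2 := fun e => (hπt y (hyo.trans e)).2 (MonoidHom.mem_ker.mp hyK)
    have hyp : IsPGroup r (zpowers y) := IsPGroup.of_card (n := 1) (by rw [Nat.card_zpowers, hyo, pow_one])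
    obtain ⟨R, hR⟩ := hyp.exists_le_sylow
    have hyR : y ∈ (R : Subgroup G) := hR (mem_zpowers y)
    obtain ⟨R', hR'⟩ := (R.isPGroup'.map π).exists_le_sylow
    haveI := Cfsg.Agent.S0262.result (F := F) 2 r hr2 hr2 R'
    let f : (R : Subgroup G) →* (R' : Subgroup SL(2, F)) :=
      (π.comp (R : Subgroup G).subtype).codRestrict _ fun a => hR' (mem_map_of_mem π a.2)
    haveI hab : IsMulCommutative (R : Subgroup G) := ⟨⟨fun a b => commutative_of_cyclic_center_quotient f
      (fun a ha => mem_center_iff.mpr fun b => Subtype.ext (mem_center_iff.mp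
        (hKcen (MonoidHom.mem_ker.mpr (congrArg Subtype.val (MonoidHom.mem_ker.mp ha) : π a = 1))) b)) a b⟩⟩
    let τ : G →* (R : Subgroup G) := MonoidHom.transfer (MonoidHom.id (R : Subgroup G))
    have hRodd : Odd (Nat.card (R : Subgroup G)) := by
      obtain ⟨k, hk⟩ := IsPGroup.iff_card.mp R.isPGroup'
      rw [hk]
      exact (hrF.out.odd_of_ne_two hr2).pow
    have hτ : L ≤ τ.ker := (closure_le _).mpr fun v hv => MonoidHom.mem_ker.mpr (eq_one_of_sq
      (by rw [← map_pow, sq_of_invol (show orderOf v = 2 from hv), map_one])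
      (hRodd.of_dvd_nat (orderOf_dvd_natCard _)))
    have h1 : τ y = 1 := MonoidHom.mem_ker.mp (hτ hyL)
    rw [show τ = MonoidHom.transfer (MonoidHom.id (R : Subgroup G)) from rfl,
      MonoidHom.transfer_eq_pow _ y (fun k g₀ _ => by
        rw [mul_assoc, ← mem_center_iff.mp (pow_mem (hKcen hyK) k) g₀, inv_mul_cancel_left])] at h1
    have h2 : y ^ (R : Subgroup G).index = 1 := congrArg Subtype.val h1
    refine hrF.out.one_lt.ne' (hyo ▸ Nat.eq_one_of_dvd_coprimes R.card_coprime_index ?_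
      (orderOf_dvd_of_pow_eq_one h2))
    rw [← Subgroup.orderOf_mk y hyR]
    exact orderOf_dvd_natCard _
  -- assemble
  let e : L ≃* SL(2, F) := MulEquiv.ofBijective (π.comp L.subtype)
    ⟨(injective_iff_map_eq_one _).mpr fun l hl => Subtype.ext (hint l l.2 (MonoidHom.mem_ker.mpr hl)),
     fun M => by
      obtain ⟨g, hg⟩ := hπ M
      obtain ⟨l, hl, hlk⟩ := hLK g
      refine ⟨⟨l, hl⟩, ?_⟩
      have := MonoidHom.mem_ker.mp hlk
      rw [map_mul, map_inv, inv_mul_eq_one] at this
      exact this.trans hg⟩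
  obtain ⟨B, _, _, ⟨eB⟩⟩ := Finite.exists_type_univ_nonempty_mulEquiv.{u, 0} K
  letI : CommGroup B :=
    { (inferInstance : Group B) with
      mul_comm := fun a b => eB.symm.injective (by
        rw [map_mul, map_mul]
        exact Subtype.ext (mem_center_iff.mp (hKcen (eB.symm b).2) _)) }
  let Θ : SL(2, F) × B →* G :=
    { toFun := fun q => ((e.symm q.1 : L) : G) * ((eB.symm q.2 : K) : G)
      map_one' := by simp
      map_mul' := fun a b => by
        simp only [Prod.fst_mul, Prod.snd_mul, map_mul, Subgroup.coe_mul]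
        have := mem_center_iff.mp (hKcen (eB.symm a.2).2) ((e.symm b.1 : L) : G)
        simp only [mul_assoc]
        rw [← mul_assoc ((e.symm b.1 : L) : G), this, mul_assoc] }
  have hΘ : Function.Bijective Θ := by
    refine ⟨(injective_iff_map_eq_one Θ).mpr fun q hq => ?_, fun g => ?_⟩
    · have hq' : ((e.symm q.1 : L) : G) = (((eB.symm q.2 : K) : G))⁻¹ := eq_inv_of_mul_eq_one_left hq
      have h1 : ((e.symm q.1 : L) : G) = 1 :=
        hint _ (e.symm q.1).2 (by rw [hq']; exact inv_mem (eB.symm q.2).2)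
      have h2 : ((eB.symm q.2 : K) : G) = 1 := by rw [h1] at hq'; exact inv_eq_one.mp hq'.symm
      exact Prod.ext (e.symm.map_eq_one_iff.mp (Subtype.ext h1)) (eB.symm.map_eq_one_iff.mp (Subtype.ext h2))
    · obtain ⟨l, hl, hlk⟩ := hLK g
      exact ⟨(e ⟨l, hl⟩, eB ⟨_, hlk⟩), by simp [Θ]⟩
  refine ⟨F, inferInstance, inferInstance, B, inferInstance, inferInstance, hchar, ?_,
    ⟨(MulEquiv.ofBijective Θ hΘ).symm⟩⟩
  rwa [← Nat.card_congr eB.toEquiv]

/-- The hypothesis passes to subgroups containing `T` outside its normaliser. -/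
theorem hyp_subtype {T : Sylow 2 G} (h : Hyp T) {H : Subgroup G} (hTH : (T : Subgroup G) ≤ H)
    (hH : ¬ H ≤ normalizer ((T : Subgroup G) : Set G)) : Hyp (T.subtype hTH) := by
  refine ⟨h.ab.subgroup H, fun hcyc => ?_, fun hn => hH fun x hx => ?_⟩
  · exact h.notCyclic ((subgroupOfEquivOfLe hTH).isCyclic.mp hcyc)
  · refine mem_normalizer_fintype fun y hy => ?_
    exact hn.conj_mem ⟨y, hTH hy⟩ hy ⟨x, hx⟩

/-- An odd element of `C(T)` has its centraliser in `N(T)` unless it is central. -/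
theorem small_of_no_central (ih : Below.{u} (Nat.card G)) {T : Sylow 2 G} (h : Hyp T)
    (hz : ∀ c ∈ center G, Odd (orderOf c) → c = 1) :
    ∀ c ∈ centralizer ((T : Subgroup G) : Set G), c ≠ 1 → Odd (orderOf c) →
      centralizer ({c} : Set G) ≤ normalizer ((T : Subgroup G) : Set G) := by
  classical
  intro c hcC hc1 hco
  by_contra hbig
  set H := centralizer ({c} : Set G) with hH
  set C := centralizer ((T : Subgroup G) : Set G) with hC
  have hCH : C ≤ H := fun x hx => mem_centralizer_singleton_iff.mpr (comm_cent h hx hcC)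
  have hTH : (T : Subgroup G) ≤ H := (le_cent h).trans hCH
  have hHlt : Nat.card H < Nat.card G := lt_of_le_of_ne (Subgroup.card_le_card_group H) fun e => hc1
    (hz c (mem_center_iff.mpr fun g => mem_centralizer_singleton_iff.mp
      ((by rw [← hH, (Subgroup.card_eq_iff_eq_top H).mp e]; exact mem_top g) : g ∈ centralizer ({c} : Set G))) hco)
  obtain ⟨F, _, _, A, _, _, hchar, hA, ⟨ψ⟩⟩ := ih H hHlt _ (hyp_subtype h hTH hbig)
  haveI := hchar
  obtain ⟨s, t, hs, hs2, ht, ht2, hst⟩ := exists_two h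
  let O : Subgroup G :=
    { carrier := {x | x ∈ C ∧ Odd (orderOf x)}
      one_mem' := ⟨one_mem _, by rw [orderOf_one]; exact odd_one⟩
      mul_mem' := fun {a b} ha hb => ⟨mul_mem ha.1 hb.1,
        (ha.2.mul hb.2).of_dvd_nat (Commute.orderOf_mul_dvd_mul_orderOf (comm_cent h ha.1 hb.1))⟩
      inv_mem' := fun {a} ha => ⟨inv_mem ha.1, by rw [orderOf_inv]; exact ha.2⟩ }
  have hHO : ∀ g ∈ H, ∀ x ∈ O, g * x = x * g := fun g hg x hx => congrArg Subtype.val
    (central_of_commute ψ hA (t := (⟨t, hTH ht⟩ : H)) (x := ⟨x, hCH hx.1⟩) (by rw [Subgroup.orderOf_mk, ht2])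
      (Subtype.ext (mem_centralizer_iff.mp hx.1 t ht).symm) (by rw [Subgroup.orderOf_mk]; exact hx.2) ⟨g, hg⟩)
  set M := normalizer (O : Set G) with hM
  have hHM : H ≤ M := fun g hg => mem_normalizer_fintype fun x hx => by
    rw [hHO g hg x hx, mul_inv_cancel_right]; exact hx
  have hcO : c ∈ O := ⟨hcC, hco⟩
  by_cases hMtop : M = ⊤
  · refine hc1 (hz c (mem_center_iff.mpr fun g => ?_) hco)
    have hinv : ∀ r : G, orderOf r = 2 → Commute r c := by
      intro r hr
      obtain ⟨a, rfl⟩ := isConj_iff.mp (se_isConj (se h) ht2 hr)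
      have hc' : a⁻¹ * c * a ∈ O := by
        have := (mem_normalizer_iff.mp (show a⁻¹ ∈ M by rw [hMtop]; exact mem_top _) c).mp hcO
        rwa [inv_inv] at this
      have e := hHO t (hTH ht) _ hc'
      show a * t * a⁻¹ * c = c * (a * t * a⁻¹)
      calc a * t * a⁻¹ * c = a * (t * (a⁻¹ * c * a)) * a⁻¹ := by group
        _ = a * (a⁻¹ * c * a * t) * a⁻¹ := by rw [e]
        _ = c * (a * t * a⁻¹) := by group
    obtain ⟨l, hl, hlc⟩ := exists_split h g
    have h1 : Commute l c := by
      have : closure {x : G | orderOf x = 2} ≤ centralizer ({c} : Set G) := (closure_le _).mpr fun r hr =>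
        mem_centralizer_singleton_iff.mpr (hinv r hr)
      exact mem_centralizer_singleton_iff.mp (this hl)
    have h2 : Commute (l⁻¹ * g) c := comm_cent h hlc hcC
    exact (show Commute g c by simpa using h1.mul_left h2)
  have hMlt : Nat.card M < Nat.card G := lt_of_le_of_ne (Subgroup.card_le_card_group M)
    fun e => hMtop ((Subgroup.card_eq_iff_eq_top M).mp e)
  have hTM : (T : Subgroup G) ≤ M := hTH.trans hHM
  have hyM := hyp_subtype h hTM fun hle => hbig (hHM.trans hle)
  obtain ⟨F', _, _, A', _, _, hchar', hA', ⟨φ⟩⟩ := ih M hMlt _ hyM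
  haveI := hchar'
  have hF4 : 4 ≤ Fintype.card F' := four_le_card φ hA' (s := ⟨s, hTM hs⟩) (t := ⟨t, hTM ht⟩)
    (by rw [Subgroup.orderOf_mk, hs2]) (by rw [Subgroup.orderOf_mk, ht2])
    (fun e => hst (congrArg Subtype.val e)) (Subtype.ext (comm_sylow h s hs t ht))
  have hconjM : ∀ a b : G, a ∈ M → b ∈ M → orderOf a = 2 → orderOf b = 2 → ∃ m ∈ M, m * a * m⁻¹ = b := by
    intro a b ha hb ha2 hb2
    obtain ⟨m, hm⟩ := isConj_iff.mp (se_isConj (se hyM) (a := ⟨a, ha⟩) (b := ⟨b, hb⟩)
      (by rw [Subgroup.orderOf_mk, ha2]) (by rw [Subgroup.orderOf_mk, hb2]))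
    exact ⟨m, m.2, congrArg Subtype.val hm⟩
  have heven : Even (Nat.card M) := by
    rw [even_iff_two_dvd]
    have := _root_.orderOf_dvd_natCard (⟨t, hTM ht⟩ : M)
    rwa [Subgroup.orderOf_mk, ht2] at this
  have hseM : IsStronglyEmbedded M := (stronglyEmbedded_iff hMtop heven).mpr fun r hr hr2 g hg => by
    have hg2 : orderOf (g * r * g⁻¹) = 2 := by rw [Invol.orderOf_conj_eq, hr2]
    obtain ⟨m₁, hm₁, e₁⟩ := hconjM r t hr (hTM ht) hr2 ht2
    obtain ⟨m₂, hm₂, e₂⟩ := hconjM _ t hg (hTM ht) hg2 ht2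
    have : m₂ * g * m₁⁻¹ ∈ M := hHM (hCH (by
      rw [hC, ← centralizer_invol h ht ht2, mem_centralizer_singleton_iff]
      calc m₂ * g * m₁⁻¹ * t = m₂ * g * m₁⁻¹ * (m₁ * r * m₁⁻¹) := by rw [e₁]
        _ = m₂ * (g * r * g⁻¹) * m₂⁻¹ * (m₂ * g * m₁⁻¹) := by group
        _ = t * (m₂ * g * m₁⁻¹) := by rw [e₂]))
    simpa [mul_assoc] using mul_mem (mul_mem (inv_mem hm₂) this) hm₁
  obtain ⟨v, hvM, hv2⟩ := se_exists_outside hseM
  set D := M ⊓ M.map (MulAut.conj v).toMonoidHom with hD
  have hDodd : Odd (Nat.card D) := by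
    rw [← Nat.not_even_iff_odd]
    intro he
    obtain ⟨w, hw, hw2⟩ := exists_involution_of_even he
    obtain ⟨w', hw', hwe⟩ := hw.2
    refine hvM (inv_mem_iff.mp (se_mem hseM hw.1 hw2 (g := v⁻¹) ?_))
    have : v * w' * v⁻¹ = w := hwe
    rw [inv_inv, ← this]
    simpa [mul_assoc] using hw'
  let f : M →* SL(2, F') := (MonoidHom.fst _ _).comp φ.toMonoidHom
  refine no_odd_transitive hF4 ((D.subgroupOf M).map f) ?_ fun X Y hX hX1 hY hY1 => ?_
  · refine hDodd.of_dvd_nat ((Subgroup.card_map_dvd (H := D.subgroupOf M) f).trans ?_)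
    rw [Nat.card_congr (subgroupOfEquivOfLe (inf_le_left : D ≤ M)).toEquiv]
  · have lift : ∀ Z : SL(2, F'), Z ^ 2 = 1 → Z ≠ 1 → orderOf ((φ.symm (Z, 1) : M) : G) = 2 := fun Z hZ hZ1 => by
      rw [Subgroup.orderOf_coe, φ.symm.orderOf_eq]
      exact orderOf_eq_prime (Prod.ext hZ (one_pow 2)) fun e => hZ1 (congrArg Prod.fst e)
    obtain ⟨d, hd, he⟩ := se_transitive hseM hv2 hvM (lift X hX hX1) (φ.symm (X, 1)).2 (lift Y hY hY1)
      (φ.symm (Y, 1)).2
    refine ⟨f ⟨d, hd.1⟩, mem_map_of_mem f (show (⟨d, hd.1⟩ : M) ∈ D.subgroupOf M from hd), ?_⟩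
    have he' : (⟨d, hd.1⟩ : M) * φ.symm (X, 1) * (⟨d, hd.1⟩ : M)⁻¹ = φ.symm (Y, 1) := Subtype.ext he
    have hf : ∀ Z : SL(2, F'), f (φ.symm (Z, 1)) = Z := fun Z => by
      show (φ (φ.symm (Z, 1))).1 = Z; rw [MulEquiv.apply_symm_apply]
    have := congrArg f he'
    rwa [map_mul, map_mul, map_inv, hf, hf] at this

/-- With a Sylow 2-subgroup neither cyclic nor normal, the group is `SL₂(F) × A`. -/
theorem structure_of_hyp : ∀ (n : ℕ) (G : Type u) [Group G] [Finite G], Nat.card G = n →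
    ∀ S : Sylow 2 G, Hyp S → IsSLTimesAbelian G := by
  intro n
  induction n using Nat.strong_induction_on with
  | _ n IH =>
    intro G _ _ hn S h
    have ih : Below.{u} (Nat.card G) := fun H _ _ hlt T hT => IH (Nat.card H) (hn ▸ hlt) H rfl T hT
    by_cases hz : ∀ c ∈ center G, Odd (orderOf c) → c = 1
    swap
    · push Not at hz
      obtain ⟨c, hc, hco, hc1⟩ := hz
      exact of_central ih h hc hc1 hco
    haveI : Fact (Nat.Prime 2) := ⟨Nat.prime_two⟩
    have hT : ∀ T : Sylow 2 G, Hyp T := fun T => by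
      obtain ⟨g, rfl⟩ := MulAction.exists_smul_eq G S T
      exact h.conj g
    obtain ⟨F, _, _, hF, ⟨e⟩⟩ := Cfsg.Agent.S1230.result S h.notCyclic h.notNormal fun t ht => by
      refine ⟨h.ab t ht, fun c hc => ?_⟩
      have hp : IsPGroup 2 (zpowers t) := IsPGroup.of_card (n := 1) (by rw [Nat.card_zpowers, ht, pow_one])
      obtain ⟨T, hle⟩ := hp.exists_le_sylow
      rw [centralizer_invol (hT T) (hle (mem_zpowers t)) ht] at hc
      rw [pow_two]
      exact sq_eq_one_of_small (hT T) (fun U => small_of_no_central ih (hT U) hz) hc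
    haveI hchar : CharP F 2 := by
      obtain ⟨k, hk⟩ := IsPGroup.iff_card.mp S.isPGroup'
      obtain ⟨p, hp⟩ := CharP.exists F
      obtain ⟨⟨m, hm0⟩, hp', hm⟩ := FiniteField.card F p
      have h2 : p ∣ 2 ^ k := by
        rw [← hk, ← hF, hm]; exact dvd_pow_self p (by simpa using Nat.pos_iff_ne_zero.1 hm0)
      obtain rfl := (Nat.prime_dvd_prime_iff_eq hp' Nat.prime_two).1 (hp'.dvd_of_dvd_pow h2)
      exact hp
    have hcen : center SL(2, F) = ⊥ := by
      refine eq_bot_iff.2 fun Q hQ => ?_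
      obtain ⟨r, hr, hQ'⟩ := Matrix.SpecialLinearGroup.mem_center_iff.1 hQ
      have hr1 : r = 1 := by
        rw [Fintype.card_fin] at hr
        exact CharTwo.sq_inj.mp (hr.trans (one_pow 2).symm)
      rw [mem_bot]
      ext i j
      rw [← hQ', hr1]
      simp
    refine ⟨F, inferInstance, inferInstance, PUnit, inferInstance, inferInstance, hchar, ?_, ⟨?_⟩⟩
    · rw [Nat.card_unique]; exact odd_one
    · exact e.trans ((QuotientGroup.quotientMulEquivOfEq hcen).trans
        (QuotientGroup.quotientBot.trans MulEquiv.prodUnique.symm))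

end Cfsg.Lib.Invol.AC
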